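import Groth.Agent.HomRep.MorS

/-!
The scheme of morphisms from a finite locally free scheme into an affine one is of finite presentation.
-/

set_option autoImplicit false
set_option backward.isDefEq.respectTransparency false
set_option backward.isDefEq.respectTransparency.types false
set_option linter.style.haveILetI false

universe u

open CategoryTheory CategoryTheory.Limits MonoidalCategory CartesianMonoidalCategory AlgebraicGeometry Opposite

noncomputable section

namespace Groth.Agent.MorSFPLib

open HomRep HomRep.MorS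

variable {Z X S : Scheme.{u}} (g : Z ⟶ S) (f : X ⟶ S)

/-- A chart over an affine open piece of the base. -/
theorem exists_chart [IsFinite g] [Flat g] [LocallyOfFinitePresentation g] [IsAffineHom f]
    [LocallyOfFinitePresentation f] (R : Type u) [CommRing R]
    (p : Spec (CommRingCat.of R) ⟶ S) :
    ∃ (W : Over (Spec (CommRingCat.of R))) (e : (Flatn.morS g f).obj (op ((Over.map p).obj W))),
      LocallyOfFinitePresentation W.hom ∧ ∀ (T : Over (Spec (CommRingCat.of R))) (x : (Flatn.morS g f).obj (op ((Over.map p).obj T))),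
        ∃! a : T ⟶ W, (Flatn.morS g f).map ((Over.map p).map a).op e = x := by
  let H : Over S := Over.mk g
  let G : Over S := Over.mk f
  haveI : IsFinite (Red.bc p H).hom := inferInstanceAs (IsFinite (pullback.snd g p))
  haveI : Flat (Red.bc p H).hom := inferInstanceAs (Flat (pullback.snd g p))
  haveI : LocallyOfFinitePresentation (Red.bc p H).hom := inferInstanceAs (LocallyOfFinitePresentation (pullback.snd g p))
  haveI : IsAffineHom (Red.bc p G).hom := inferInstanceAs (IsAffineHom (pullback.snd f p))
  obtain ⟨W, ev, hW, -, hfp, hrep⟩ := exists_weilRes R (Red.bc p H) (Red.bc p G)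
  let υ : H ⊗ (Over.map p).obj W ⟶ G := inv (proj p H W) ≫ ((Over.mapPullbackAdj p).homEquiv _ _).symm ev
  have huniv : ∀ (T : Over (Spec (CommRingCat.of R))) (x : (Flatn.morS g f).obj (op ((Over.map p).obj T))),
      ∃! a : T ⟶ W, (Flatn.morS g f).map ((Over.map p).map a).op ((conv g f).symm υ) = x := fun T x => by
    obtain ⟨a, ha, hu⟩ := hrep T ((Over.mapPullbackAdj p).homEquiv _ _ (proj p H T ≫ conv g f x))
    have key : ∀ b : T ⟶ W, (Flatn.morS g f).map ((Over.map p).map b).op ((conv g f).symm υ) = x ↔
        (Red.bc p H ◁ b) ≫ ev = (Over.mapPullbackAdj p).homEquiv _ _ (proj p H T ≫ conv g f x) := by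
      intro b
      rw [← (conv g f).injective.eq_iff, conv_map, Equiv.apply_symm_apply]
      have hnat : (Over.map p).map (Red.bc p H ◁ b) ≫ proj p H W = proj p H T ≫ (H ◁ (Over.map p).map b) := by
        refine hom_ext _ _ ?_ ?_
        · simp only [proj, Category.assoc, lift_fst, whiskerLeft_fst]
          rw [← Adjunction.homEquiv_naturality_left_symm, whiskerLeft_fst]
        · simp only [proj, Category.assoc, lift_snd, whiskerLeft_snd]
          rw [lift_snd_assoc, ← Functor.map_comp, ← Functor.map_comp, whiskerLeft_snd]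
      have : proj p H T ≫ (H ◁ (Over.map p).map b) ≫ υ =
          (Over.map p).map (Red.bc p H ◁ b) ≫ ((Over.mapPullbackAdj p).homEquiv _ _).symm ev := by
        rw [← reassoc_of% hnat, IsIso.hom_inv_id_assoc]
      rw [← cancel_epi (proj p H T), this, ← ((Over.mapPullbackAdj p).homEquiv _ _).injective.eq_iff,
        Adjunction.homEquiv_naturality_left, Equiv.apply_symm_apply]
    exact ⟨a, (key a).2 ha, fun b hb => hu b ((key b).1 hb)⟩
  exact ⟨W, (conv g f).symm υ, hfp (inferInstanceAs (LocallyOfFinitePresentation (pullback.snd f p))), huniv⟩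

/-- The representing scheme is of finite presentation. -/
theorem exists_representable [IsFinite g] [Flat g] [LocallyOfFinitePresentation g] [IsAffineHom f]
    [LocallyOfFinitePresentation f] :
    ∃ W : Over S, IsAffineHom W.hom ∧ LocallyOfFinitePresentation W.hom ∧ Nonempty ((Flatn.morS g f).RepresentableBy W) := by
  obtain ⟨Y, hY, ⟨r⟩⟩ := MorS.exists_representable g f
  refine ⟨Y, hY, ?_, ⟨r⟩⟩
  let F := Flatn.morS g f
  let 𝒰 := S.affineCover
  let R : 𝒰.I₀ → CommRingCat.{u} := fun i => Γ(𝒰.X i, ⊤)
  let p : ∀ i, Spec (CommRingCat.of (R i)) ⟶ S := fun i => (𝒰.X i).isoSpec.inv ≫ 𝒰.f i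
  haveI hp : ∀ i, IsOpenImmersion (p i) := fun i => inferInstanceAs (IsOpenImmersion ((𝒰.X i).isoSpec.inv ≫ 𝒰.f i))
  choose A e hA hrep using fun i => exists_chart g f (R i) (p i)
  have hsq : ∀ i, IsPullback (r.homEquiv.symm (e i)).left (A i).hom Y.hom (p i) := by
    intro i
    refine ⟨⟨Over.w (r.homEquiv.symm (e i))⟩, ⟨?_⟩⟩
    have hex : ∀ s : PullbackCone Y.hom (p i), ∃! a : Over.mk s.snd ⟶ A i,
        (Over.map (p i)).map a ≫ r.homEquiv.symm (e i) =
          Over.homMk (U := (Over.map (p i)).obj (Over.mk s.snd)) (V := Y) s.fst s.condition := by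
      intro s
      let b : (Over.map (p i)).obj (Over.mk s.snd) ⟶ Y := Over.homMk s.fst s.condition
      refine (Function.bijective_iff_existsUnique _).1 ?_ b
      have h : (fun a : Over.mk s.snd ⟶ A i => r.homEquiv ((Over.map (p i)).map a ≫ r.homEquiv.symm (e i))) =
          fun a => F.map ((Over.map (p i)).map a).op (e i) := funext fun a => by
        rw [r.homEquiv_comp, Equiv.apply_symm_apply]
      refine (r.homEquiv.bijective.of_comp_iff' _).1 ?_
      show Function.Bijective fun a : Over.mk s.snd ⟶ A i => r.homEquiv ((Over.map (p i)).map a ≫ r.homEquiv.symm (e i))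
      rw [h]
      exact (Function.bijective_iff_existsUnique _).2 (hrep i (Over.mk s.snd))
    refine PullbackCone.IsLimit.mk _ (fun s => (hex s).choose.left) (fun s => ?_) (fun s => Over.w (hex s).choose)
      (fun s m hm₁ hm₂ => ?_)
    · exact congrArg CommaMorphism.left (hex s).choose_spec.1
    · exact congrArg CommaMorphism.left ((hex s).choose_spec.2 (Over.homMk m hm₂) (Over.OverMorphism.ext hm₁))
  refine (IsZariskiLocalAtTarget.iff_of_openCover (P := @LocallyOfFinitePresentation) 𝒰).2 fun i => ?_
  show LocallyOfFinitePresentation (pullback.snd Y.hom (𝒰.f i))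
  have hcmp : IsPullback (pullback.fst Y.hom (𝒰.f i)) (pullback.snd Y.hom (𝒰.f i) ≫ (𝒰.X i).isoSpec.hom) Y.hom (p i) :=
    (IsPullback.of_hasPullback Y.hom (𝒰.f i)).of_iso (Iso.refl _) (Iso.refl _) (𝒰.X i).isoSpec (Iso.refl _)
      (by simp) (by simp) (by simp) (by simp [p])
  haveI := hA i
  have h1 : LocallyOfFinitePresentation (pullback.snd Y.hom (𝒰.f i) ≫ (𝒰.X i).isoSpec.hom) := by
    rw [← IsPullback.isoIsPullback_hom_snd _ _ hcmp (hsq i)]
    infer_instance
  exact (MorphismProperty.cancel_right_of_respectsIso @LocallyOfFinitePresentation _ _).1 h1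

end Groth.Agent.MorSFPLib
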